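import Cfsg.Agent.H133.PB.LocalCor
import Cfsg.Agent.H843.IMC.Co3B

/-!
# `Co3`: the prime 3 and the principal 2-block (helper769, for S4826)

`C(3C) = 3 × L₂(8):3` has a real character of degree 27 (helper843): T3 for principal blocks.
-/

set_option autoImplicit false

namespace Cfsg.Agent.H769.PB.CoThreeThree

open Cfsg Cfsg.Agent.H133.PB Cfsg.Agent.H843.IMC.Co3B

theorem bd_three : BD 3 2 Spor.Co3 := by
  have hp : Fact (Nat.Prime 3) := ⟨Nat.prime_three⟩
  have hp2 : Fact (Nat.Prime 2) := ⟨Nat.prime_two⟩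
  obtain ⟨f⟩ := nonempty_equiv
  refine BD.of_equiv f ?_
  have hfin : Finite Gw := Nat.finite_of_card_ne_zero (by rw [card_Gw]; norm_num)
  obtain ⟨θ, hθ, hval⟩ := exists_theta
  have hcard : Nat.card ↥(Subgroup.zpowers x) = 3 := by rw [Nat.card_zpowers, orderOf_x]
  have hle : Subgroup.zpowers x ≤ KK := by
    rw [KK_eq, Subgroup.zpowers_le, Subgroup.mem_centralizer_singleton_iff]
  refine BD.of_local (by norm_num) (Subgroup.zpowers x) (IsPGroup.of_card (n := 1) (by rw [hcard, pow_one])) ?_
    (Subgroup.mem_zpowers x) KK_eq.ge θ ?_ ?_ ?_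
  · have h1 := Subgroup.card_mul_index (Subgroup.zpowers x)
    rw [hcard, card_Gw] at h1
    omega
  · have h1 : (Nat.card ↥KK).factorization 3 ≤ 4 := by
      by_contra hcon
      exact not_dvd_KK ((Nat.prime_three.pow_dvd_iff_le_factorization Nat.card_pos.ne').2 (by omega))
    have h2 : (charDegree (θ : ↥KK → ℂ)).factorization 3 = 3 := by
      rw [hθ, show (27 : ℕ) = 3 ^ 3 by norm_num, Nat.prime_three.factorization_pow]
      simp
    have h3 : Subgroup.zpowers x ⊓ KK = Subgroup.zpowers x := inf_eq_left.2 hle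
    rw [h3, hcard, Nat.prime_three.factorization_self, h2]
    exact h1
  · intro g hg hk
    exact Subgroup.mem_sup_right (centralizes_of_order orderOf_x hg hk)
  · intro M hM
    refine (S4483.result M hM).1 θ (fun g => ?_) ?_
    · rw [hval, Complex.sub_im, Complex.natCast_im, Complex.one_im, sub_zero]
    · rw [hθ]; decide

end Cfsg.Agent.H769.PB.CoThreeThree
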