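import Cfsg.Agent.H769.PB.RowCoTwo
import Cfsg.Agent.H769.PB.CoThreeRank5
import Cfsg.Agent.H769.PB.CoThreeTwo
import Cfsg.Agent.H769.PB.CoThreeThree

/-!
# S4826: the row `Co3` (helper769)

`p = 2`: a real element of order 7; `p = 5, 11`: 275; `p = 7`: 8855; `p = 23`: 23; `p = 3`: the
centralizer `3 × L₂(8):3`.
-/

set_option autoImplicit false

namespace Cfsg.Agent.H769.PB.RowCoThree

open Cfsg Cfsg.Agent.H133.PB

universe u

theorem two' {p q : ℕ} (hp : p.Prime) (hq : q.Prime) {k : ℕ} (h : p ∣ q ^ k) : p = q :=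
  (Nat.prime_dvd_prime_iff_eq hp hq).1 (hp.dvd_of_dvd_pow h)

/-- **The row `Co3`.** -/
theorem row_co3 {S : Type u} [Group S] (h : Cfsg.Spor.IsoCo3 S) {p : ℕ} (hp : p.Prime)
    (hd : p ∣ Nat.card S) : Row p S := by
  obtain ⟨e⟩ := h
  refine Row.of_equiv e ?_
  have hcard := Cfsg.Agent.H843.IMC.Co3A.card_co3
  rw [Nat.card_congr e.toEquiv, hcard] at hd
  have h5 : p ∣ 2 ^ 10 * 3 ^ 7 * 5 ^ 3 * 7 ^ 1 * 11 ^ 1 * 23 ^ 1 := by
    norm_num
    exact hd
  have key : p = 2 ∨ p = 3 ∨ p = 5 ∨ p = 7 ∨ p = 11 ∨ p = 23 := by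
    rcases hp.dvd_mul.1 h5 with h5 | h5
    · rcases hp.dvd_mul.1 h5 with h5 | h5
      · rcases hp.dvd_mul.1 h5 with h5 | h5
        · rcases hp.dvd_mul.1 h5 with h5 | h5
          · rcases hp.dvd_mul.1 h5 with h5 | h5
            · exact Or.inl (two' hp (by norm_num) h5)
            · exact Or.inr (Or.inl (two' hp (by norm_num) h5))
          · exact Or.inr (Or.inr (Or.inl (two' hp (by norm_num) h5)))
        · exact Or.inr (Or.inr (Or.inr (Or.inl (two' hp (by norm_num) h5))))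
      · exact Or.inr (Or.inr (Or.inr (Or.inr (Or.inl (two' hp (by norm_num) h5)))))
    · exact Or.inr (Or.inr (Or.inr (Or.inr (Or.inr (two' hp (by norm_num) h5)))))
  have h2 : ∀ {q : ℕ}, q ≠ 2 → BD q 2 Spor.Co3 → Row q Spor.Co3 := fun hq hb =>
    Row.intro Nat.prime_two (Ne.symm hq) (by rw [hcard]; norm_num) hb
  rcases key with rfl | rfl | rfl | rfl | rfl | rfl
  · exact Row.intro (by norm_num) (by norm_num) (by rw [hcard]; norm_num) CoThreeTwo.bd_two
  · exact h2 (by norm_num) CoThreeThree.bd_three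
  · obtain ⟨χ, -, h3, h4⟩ := CoThreeRank5.exists_275
    exact h2 (by norm_num) (BD.of_real χ h4 (by rw [h3]; decide) (by rw [h3]; norm_num))
  · obtain ⟨-, χ, h3, h4⟩ := CoThreeRank5.exists_chars
    exact h2 (by norm_num) (BD.of_real χ h4 (by rw [h3]; decide) (by rw [h3]; norm_num))
  · obtain ⟨χ, -, h3, h4⟩ := CoThreeRank5.exists_275
    exact h2 (by norm_num) (BD.of_real χ h4 (by rw [h3]; decide) (by rw [h3]; norm_num))
  · obtain ⟨μ, hμ⟩ := Cfsg.Agent.H843.IMC.Co3A.exists_mu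
    exact h2 (by norm_num) (RowCoTwo.bd_23 hμ)

end Cfsg.Agent.H769.PB.RowCoThree
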