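import Cfsg.Agent.H133.PB.Even

/-!
# Real constituents of real characters (helper769, for S4826)

* `real_of_unique` : a constituent of a real class function which is the only one of its degree is real.
* `BD.of_odd` : a real character of odd degree all of whose constituents have degree divisible by `p`: `BD p 2 G`.
-/

set_option autoImplicit false

namespace Cfsg.Agent.H769.PB

open Cfsg Cfsg.Agent.Characters.Core Cfsg.Agent.H133.PB
open scoped ComplexConjugate

universe u

variable {G : Type u} [Group G] [Finite G]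

theorem im_of_cj {χ : IrrCharacter G} (h : cj χ = χ) (g : G) : ((χ : G → ℂ) g).im = 0 := by
  have h1 : conj ((χ : G → ℂ) g) = (χ : G → ℂ) g := congrFun (congrArg Subtype.val h) g
  exact Complex.conj_eq_iff_im.1 h1

theorem deg_cj (χ : IrrCharacter G) : charDegree (cj χ : G → ℂ) = charDegree (χ : G → ℂ) := by
  have h1 := Cfsg.Agent.Blocks.Basic.irr_one_eq_charDegree (cj χ).2
  have h2 := Cfsg.Agent.Blocks.Basic.irr_one_eq_charDegree χ.2
  have h3 : ((cj χ : IrrCharacter G) : G → ℂ) 1 = conj ((χ : G → ℂ) 1) := rfl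
  rw [h3, h2, Complex.conj_natCast] at h1
  exact_mod_cast h1.symm

theorem cj_cj (χ : IrrCharacter G) : cj (cj χ) = χ :=
  Subtype.ext (funext fun g => Complex.conj_conj _)

theorem inner_cj [Fintype G] {W : G → ℂ} (hW : ∀ g, conj (W g) = W g) (χ : IrrCharacter G) :
    classInner W (cj χ : G → ℂ) = conj (classInner W (χ : G → ℂ)) := by
  rw [classInner_def, classInner_def, map_mul, map_inv₀, Complex.conj_natCast, map_sum]
  congr 1
  refine Finset.sum_congr rfl fun g _ => ?_
  rw [map_mul, hW]
  rfl

/-- A constituent of a real class function which is the only one of its degree is real. -/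
theorem real_of_unique [Fintype G] {W : G → ℂ} (hW : ∀ g, conj (W g) = W g) {χ : IrrCharacter G}
    (h0 : classInner W (χ : G → ℂ) ≠ 0)
    (hu : ∀ ψ : IrrCharacter G, classInner W (ψ : G → ℂ) ≠ 0 →
      charDegree (ψ : G → ℂ) = charDegree (χ : G → ℂ) → ψ = χ) (g : G) : ((χ : G → ℂ) g).im = 0 := by
  apply im_of_cj
  apply hu _ _ (deg_cj χ)
  rw [inner_cj hW]
  intro h
  apply h0
  have h1 := congrArg conj h
  rwa [Complex.conj_conj, map_zero] at h1

/-- A real character of odd degree all of whose constituents have degree divisible by `p`. -/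
theorem BD.of_odd [Fintype G] {p : ℕ} {W : G → ℂ} (hW : IsCharacter G W) (hr : ∀ g, conj (W g) = W g) {n : ℕ}
    (hn : W 1 = n) (hodd : Odd n)
    (hp : ∀ ψ : IrrCharacter G, classInner W (ψ : G → ℂ) ≠ 0 → p ∣ charDegree (ψ : G → ℂ)) : BD p 2 G := by
  classical
  have : Finite (IrrCharacter G) := finite_irr
  have := Fintype.ofFinite (IrrCharacter G)
  by_contra hcon
  obtain ⟨m, hm⟩ := exists_nat_comb hW
  have hin : ∀ ψ : IrrCharacter G, classInner W (ψ : G → ℂ) = m ψ := by
    intro ψ
    have h1 : W = ∑ χ : IrrCharacter G, (m χ : ℂ) • (χ : G → ℂ) := by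
      funext g
      rw [hm]
      simp [Finset.sum_apply]
    rw [h1, classInner_sum_left, Finset.sum_eq_single ψ]
    · rw [classInner_smul_left, classInner_irr_self ψ.2, mul_one]
    · intro χ _ hχ
      rw [classInner_smul_left, classInner_irr_ne χ.2 ψ.2 (fun h3 => hχ (Subtype.ext h3)), mul_zero]
    · intro h
      exact absurd (Finset.mem_univ _) h
  have hmc : ∀ ψ : IrrCharacter G, m (cj ψ) = m ψ := by
    intro ψ
    have h1 := inner_cj hr ψ
    rw [hin, hin, Complex.conj_natCast] at h1
    exact_mod_cast h1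
  have hdeg : n = ∑ ψ : IrrCharacter G, m ψ * charDegree (ψ : G → ℂ) := by
    have h1 : (n : ℂ) = ((∑ ψ : IrrCharacter G, m ψ * charDegree (ψ : G → ℂ) : ℕ) : ℂ) := by
      rw [← hn, hm, Finset.sum_apply]
      push_cast
      refine Finset.sum_congr rfl fun ψ _ => ?_
      rw [Pi.smul_apply, nsmul_eq_mul, Cfsg.Agent.Blocks.Basic.irr_one_eq_charDegree ψ.2]
    exact_mod_cast h1
  have hz : ((n : ℕ) : ZMod 2) = 0 := by
    rw [hdeg]
    push_cast
    refine Finset.sum_involution (fun ψ _ => cj ψ) ?_ ?_ (fun ψ _ => Finset.mem_univ _) (fun ψ _ => cj_cj ψ)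
    · intro ψ _
      have h1 : charDegree (cj ψ : G → ℂ) = charDegree (ψ : G → ℂ) := deg_cj ψ
      rw [hmc, h1]
      have h2 : ∀ a : ZMod 2, a + a = 0 := by decide
      exact h2 _
    · intro ψ _ h0 h1
      apply hcon
      have h2 : m ψ ≠ 0 := by
        intro h3
        apply h0
        rw [h3]
        simp
      have h3 : Odd (charDegree (ψ : G → ℂ)) := by
        rw [← Nat.not_even_iff_odd]
        intro h4
        apply h0
        rw [(ZMod.natCast_eq_zero_iff_even.2 h4), mul_zero]
      exact BD.of_real ψ (im_of_cj h1) h3 (hp ψ (by rw [hin]; exact_mod_cast h2))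
  rw [ZMod.natCast_eq_zero_iff_even] at hz
  exact (Nat.not_even_iff_odd.2 hodd) hz

end Cfsg.Agent.H769.PB
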